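import Cfsg.Agent.Lib.UnitaryUnipotent.Orbit
import Cfsg.Agent.Lib.JordanCommutant.Count
import Cfsg.Agent.Lib.SUClassNumber.Centralizer
import Cfsg.Agent.Lib.UnitaryOrder
import Cfsg.Agent.Lib.SemisimpleCount.Unitary

/-!
The isometries commuting with a unipotent matrix of given Jordan type for a block diagonal form.
-/

set_option autoImplicit false
set_option linter.unusedSectionVars false

namespace CfsgLib.UnitaryUnipotent

open Matrix CfsgLib.JordanCommutant

universe u

variable {K : Type u} [Field K] {t : ℕ} {d : Fin t → ℕ} {s : K →+* K}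

/-- A block of a matrix. -/
def blk (X : Matrix (Ix d) (Ix d) K) (l k : Fin t) : Matrix (Fin (d l)) (Fin (d k)) K :=
  Matrix.of fun i j => X ⟨l, i⟩ ⟨k, j⟩

theorem blk_diag_mul (A : ∀ k, Matrix (Fin (d k)) (Fin (d k)) K) (X : Matrix (Ix d) (Ix d) K) (l k : Fin t) :
    blk (Matrix.blockDiagonal' A * X) l k = A l * blk X l k := by
  ext i j
  show (Matrix.blockDiagonal' A * X) ⟨l, i⟩ ⟨k, j⟩ = _
  rw [Matrix.mul_apply, Fintype.sum_sigma, Finset.sum_eq_single l, Matrix.mul_apply]
  · exact Finset.sum_congr rfl fun a _ => by rw [Matrix.blockDiagonal'_apply_eq]; rfl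
  · intro b _ hb
    exact Finset.sum_eq_zero fun a _ => by rw [Matrix.blockDiagonal'_apply_ne _ _ _ (Ne.symm hb), zero_mul]
  · simp

theorem blk_mul_diag (A : ∀ k, Matrix (Fin (d k)) (Fin (d k)) K) (X : Matrix (Ix d) (Ix d) K) (l k : Fin t) :
    blk (X * Matrix.blockDiagonal' A) l k = blk X l k * A k := by
  ext i j
  show (X * Matrix.blockDiagonal' A) ⟨l, i⟩ ⟨k, j⟩ = _
  rw [Matrix.mul_apply, Fintype.sum_sigma, Finset.sum_eq_single k, Matrix.mul_apply]
  · exact Finset.sum_congr rfl fun a _ => by rw [Matrix.blockDiagonal'_apply_eq]; rfl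
  · intro b _ hb
    exact Finset.sum_eq_zero fun a _ => by rw [Matrix.blockDiagonal'_apply_ne _ _ _ hb, mul_zero]
  · simp

theorem blk_cst (X : Matrix (Ix d) (Ix d) K) (l k : Fin t) : blk (cst s X) l k = cst s (blk X k l) := rfl

theorem ext0_eq (hd : ∀ k, 1 ≤ d k) (c : Par d → K) (l k : Fin t) :
    ext0 c l k 0 = mk c ⟨l, ⟨0, hd _⟩⟩ ⟨k, ⟨0, hd _⟩⟩ := by
  simp [mk]

theorem commute_jordan_iff (X : Matrix (Ix d) (Ix d) K) :
    Commute X (Cfsg.jordanTypeMatrix d K) ↔ X * nil K d = nil K d * X := comm_jordan_iff X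

theorem mk_add (a b : Par d → K) : mk (a + b) = mk a + mk b := by
  have h := mk_sub (a + b) b
  rw [add_sub_cancel_right] at h
  rw [h, sub_add_cancel]

theorem mk_smul (z : K) (a : Par d → K) : mk (z • a) = z • mk a := by
  ext p q
  simp only [mk, Matrix.of_apply, Matrix.smul_apply, ext0, Pi.smul_apply, smul_eq_mul, mul_ite, mul_dite, mul_zero]

variable [Fintype K]

theorem card_matrix (ι : Type) [Fintype ι] [DecidableEq ι] :
    Nat.card (Matrix ι ι K) = Fintype.card K ^ (Fintype.card ι * Fintype.card ι) := by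
  show Nat.card (ι → ι → K) = _
  rw [Nat.card_fun, Nat.card_fun, Nat.card_eq_fintype_card (α := K), Nat.card_eq_fintype_card (α := ι), ← pow_mul]

/-- A Hermitian form preserved by a Jordan block. -/
theorem exists_block_form (p : ℕ) [Fact p.Prime] [CharP K p] {q : ℕ} (hK : Fintype.card K = q ^ 2)
    (hs : ∀ x, s x = x ^ q) (hsim : ∀ (m : ℕ) (g : GL (Fin m) K) (k : ℕ), g ^ p ^ k = 1 →
      IsConj g (CfsgLib.SemisimpleCount.twist s g)) (htw : ∀ (m : ℕ) (M : GL (Fin m) K),
      (((M : Matrix (Fin m) (Fin m) K).map (fun x : K => x ^ q)).transpose)⁻¹ =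
        (CfsgLib.SemisimpleCount.twist s M).1) (D : ℕ) :
    ∃ P : GL (Fin D) K, cst s P.1 = P.1 ∧
      cst s (Cfsg.jordanBlock D K) * P.1 * Cfsg.jordanBlock D K = P.1 := by
  classical
  have hs2 : ∀ x, s (s x) = x := fun x => by rw [hs, hs, ← pow_mul, ← sq, ← hK, FiniteField.pow_card]
  set N : Matrix (Fin D) (Fin D) K := Matrix.of fun i j => if (i : ℕ) = j + 1 then 1 else 0 with hN
  have hJ : Cfsg.jordanBlock D K = 1 + N := by
    ext i j
    rw [Cfsg.jordanBlock, Matrix.of_apply, Matrix.add_apply, hN, Matrix.of_apply, Matrix.one_apply]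
    by_cases e : (i : ℕ) = j
    · rw [if_pos e, if_pos (Fin.ext e), if_neg (by omega), add_zero]
    · rw [if_neg e, if_neg (fun h => e (congrArg Fin.val h)), zero_add]
  have hpow : ∀ m (i j : Fin D), (N ^ m) i j ≠ 0 → (i : ℕ) = j + m := by
    intro m
    induction m with
    | zero =>
      intro i j h
      rw [pow_zero, Matrix.one_apply] at h
      split_ifs at h with e
      · rw [e]; rfl
      · exact absurd rfl h
    | succ m ih =>
      intro i j h
      rw [pow_succ, Matrix.mul_apply] at h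
      obtain ⟨r, -, hr⟩ := Finset.exists_ne_zero_of_sum_ne_zero h
      obtain ⟨h1, h2⟩ := mul_ne_zero_iff.mp hr
      have := ih i r h1
      simp only [hN, Matrix.of_apply, ne_eq, ite_eq_right_iff, not_forall] at h2
      obtain ⟨e, -⟩ := h2
      omega
  have hnil : N ^ p ^ D = 0 := Matrix.ext fun i j => by
    by_contra h
    have := hpow _ i j h
    have := i.2
    have := Nat.lt_pow_self (n := D) (Fact.out : p.Prime).one_lt
    omega
  have hJp : Cfsg.jordanBlock D K ^ p ^ D = 1 := by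
    rcases Nat.eq_zero_or_pos D with rfl | hD
    · exact Subsingleton.elim _ _
    haveI : Nonempty (Fin D) := ⟨⟨0, hD⟩⟩
    rw [hJ, add_pow_char_pow_of_commute p D (Commute.one_left N), one_pow, hnil, add_zero]
  have hpos : 0 < p ^ D := pow_pos (Fact.out : p.Prime).pos D
  let J : GL (Fin D) K := ⟨Cfsg.jordanBlock D K, Cfsg.jordanBlock D K ^ (p ^ D - 1),
    by rw [← pow_succ', Nat.sub_add_cancel hpos, hJp], by rw [← pow_succ, Nat.sub_add_cancel hpos, hJp]⟩
  obtain ⟨B, hB⟩ := (CfsgLib.UnitaryConj.similar_iff hK J).2 (by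
    rw [htw]
    exact MonoidHom.map_isConj (Units.coeHom (Matrix (Fin D) (Fin D) K)) (hsim D J D (Units.ext (by
      rw [Units.val_pow_eq_pow_val]; exact hJp))))
  obtain ⟨x, hx⟩ := isConj_iff.mp hB
  have hBu : cst s (B : GL (Fin D) K).1 * (B : GL (Fin D) K).1 = 1 :=
    (CfsgLib.SUClassNumber.mem_GU_iff hs hs2 _).mp B.2
  have hxJ : x.1 * J.1 = (B : GL (Fin D) K).1 * x.1 := congrArg Units.val (mul_inv_eq_iff_eq_mul.mp hx)
  have hxu : IsUnit (cst s x.1 * x.1) :=
    IsUnit.mul (IsUnit.of_mul_eq_one (cst s (x⁻¹).1) (by rw [← cst_mul, Units.inv_mul, cst_one])) x.isUnit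
  refine ⟨hxu.unit, ?_, ?_⟩
  · rw [IsUnit.unit_spec, cst_mul, cst_cst hs2]
  · rw [IsUnit.unit_spec]
    calc cst s J.1 * (cst s x.1 * x.1) * J.1 = cst s (x.1 * J.1) * (x.1 * J.1) := by
          rw [cst_mul]; simp only [Matrix.mul_assoc]
      _ = cst s x.1 * (cst s (B : GL (Fin D) K).1 * (B : GL (Fin D) K).1) * x.1 := by
          rw [hxJ, cst_mul]; simp only [Matrix.mul_assoc]
      _ = cst s x.1 * x.1 := by rw [hBu, Matrix.mul_one]

/-- The block diagonal form. -/
noncomputable def blockForm (F : ∀ D, GL (Fin D) K) : GL (Ix d) K :=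
  ⟨Matrix.blockDiagonal' fun k => (F (d k)).1, Matrix.blockDiagonal' fun k => ((F (d k))⁻¹).1,
    by rw [← Matrix.blockDiagonal'_mul]; simp only [Units.mul_inv]; exact Matrix.blockDiagonal'_one,
    by rw [← Matrix.blockDiagonal'_mul]; simp only [Units.inv_mul]; exact Matrix.blockDiagonal'_one⟩

theorem cst_blockDiag (A : ∀ k, Matrix (Fin (d k)) (Fin (d k)) K) :
    cst s (Matrix.blockDiagonal' A) = Matrix.blockDiagonal' fun k => cst s (A k) := by
  simp only [cst, Matrix.blockDiagonal'_map _ _ (map_zero s), Matrix.blockDiagonal'_transpose]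

variable {F : ∀ D, GL (Fin D) K}

theorem blockForm_herm (hF : ∀ D, cst s (F D).1 = (F D).1) :
    cst s (blockForm (d := d) F).1 = (blockForm (d := d) F).1 := by
  show cst s (Matrix.blockDiagonal' fun k => (F (d k)).1) = Matrix.blockDiagonal' fun k => (F (d k)).1
  rw [cst_blockDiag]
  exact congrArg _ (funext fun k => hF _)

theorem blockForm_jordan (hFJ : ∀ D, cst s (Cfsg.jordanBlock D K) * (F D).1 * Cfsg.jordanBlock D K = (F D).1) :
    cst s (Cfsg.jordanTypeMatrix d K) * (blockForm (d := d) F).1 * Cfsg.jordanTypeMatrix d K =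
      (blockForm (d := d) F).1 := by
  show cst s (Matrix.blockDiagonal' fun k => Cfsg.jordanBlock (d k) K) * (Matrix.blockDiagonal' fun k => (F (d k)).1) *
    (Matrix.blockDiagonal' fun k => Cfsg.jordanBlock (d k) K) = Matrix.blockDiagonal' fun k => (F (d k)).1
  rw [cst_blockDiag, ← Matrix.blockDiagonal'_mul, ← Matrix.blockDiagonal'_mul]
  exact congrArg _ (funext fun k => hFJ _)

theorem blk_adj (X : Matrix (Ix d) (Ix d) K) (l k : Fin t) :
    blk (adj s (blockForm (d := d) F) X) l k = ((F (d l))⁻¹).1 * cst s (blk X k l) * (F (d k)).1 := by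
  show blk ((Matrix.blockDiagonal' fun k => ((F (d k))⁻¹).1) * cst s X * (Matrix.blockDiagonal' fun k => (F (d k)).1))
    l k = _
  rw [blk_mul_diag, blk_diag_mul, blk_cst]

/-- The leading entry of the adjoint of a block. -/
theorem entry_adj (hFJ : ∀ D, cst s (Cfsg.jordanBlock D K) * (F D).1 * Cfsg.jordanBlock D K = (F D).1)
    {a b : ℕ} (hab : a = b) (ha : 0 < a) (hb : 0 < b) (Y : Matrix (Fin b) (Fin a) K)
    (hY : Y * Cfsg.jordanBlock a K = Cfsg.jordanBlock b K * Y) :
    (((F a)⁻¹).1 * cst s Y * (F b).1) ⟨0, ha⟩ ⟨0, hb⟩ = s (Y ⟨0, hb⟩ ⟨0, ha⟩) := by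
  classical
  subst hab
  set N : Matrix (Fin a) (Fin a) K := Cfsg.jordanBlock a K - 1 with hN
  have hNent : ∀ i j : Fin a, N i j = if (i : ℕ) = j + 1 then 1 else 0 := fun i j => by
    rw [hN, Matrix.sub_apply, Cfsg.jordanBlock, Matrix.of_apply, Matrix.one_apply]
    by_cases e : (i : ℕ) = j
    · rw [if_pos e, if_pos (Fin.ext e), if_neg (by omega), sub_self]
    · rw [if_neg e, if_neg (fun h => e (congrArg Fin.val h)), sub_zero]
  have hrow : ∀ Z : Matrix (Fin a) (Fin a) K, Z * Cfsg.jordanBlock a K = Cfsg.jordanBlock a K * Z →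
      ∀ j : Fin a, (j : ℕ) ≠ 0 → Z ⟨0, ha⟩ j = 0 := by
    intro Z hZ j hj
    have hZN : Z * N = N * Z := by rw [hN, Matrix.mul_sub, Matrix.sub_mul, hZ, Matrix.mul_one, Matrix.one_mul]
    have h := congrFun (congrFun hZN ⟨0, ha⟩) ⟨j - 1, by omega⟩
    rw [Matrix.mul_apply, Matrix.mul_apply, Finset.sum_eq_single j, Finset.sum_eq_zero] at h
    · rwa [hNent, if_pos (by simp only; omega), mul_one] at h
    · intro i _; rw [hNent, if_neg (by simp only; omega), zero_mul]
    · intro i _ hi; rw [hNent, if_neg (fun e => hi (Fin.ext (by simp only at e; omega))), mul_zero]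
    · simp
  have hnil0 : ∀ Z : Matrix (Fin a) (Fin a) K, Z * Cfsg.jordanBlock a K = Cfsg.jordanBlock a K * Z →
      IsNilpotent Z → Z ⟨0, ha⟩ ⟨0, ha⟩ = 0 := by
    intro Z hZ ⟨m, hm⟩
    have key : ∀ m, (Z ^ m) ⟨0, ha⟩ ⟨0, ha⟩ = (Z ⟨0, ha⟩ ⟨0, ha⟩) ^ m := by
      intro m
      induction m with
      | zero => simp
      | succ m ih =>
        rw [pow_succ', pow_succ', Matrix.mul_apply, Finset.sum_eq_single ⟨0, ha⟩, ih]
        · intro j _ hj
          rw [hrow Z hZ j (fun h => hj (Fin.ext h)), zero_mul]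
        · simp
    have := key m
    rw [hm] at this
    exact (pow_eq_zero_iff'.mp this.symm).1
  have hcm : ∀ M : Matrix (Fin a) (Fin a) K, M * Cfsg.jordanBlock a K = Cfsg.jordanBlock a K * M →
      adj s (F a) M * Cfsg.jordanBlock a K = Cfsg.jordanBlock a K * adj s (F a) M := by
    intro M hM
    have hu : IsUnit (Cfsg.jordanBlock a K) := by
      rw [Matrix.isUnit_iff_isUnit_det]
      have h := congrArg Matrix.det (hFJ a)
      rw [Matrix.det_mul, Matrix.det_mul] at h
      exact isUnit_iff_ne_zero.mpr fun h0 => by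
        rw [h0, mul_zero] at h
        exact ((Matrix.isUnit_iff_isUnit_det _).mp (F a).isUnit).ne_zero h.symm
    exact (adj_comm (J := hu.unit) (hFJ a) hM).eq
  set c := Y ⟨0, hb⟩ ⟨0, ha⟩ with hc
  have hY' : (Y - c • 1) * Cfsg.jordanBlock a K = Cfsg.jordanBlock a K * (Y - c • 1) := by
    rw [Matrix.sub_mul, Matrix.mul_sub, hY, Matrix.smul_mul, Matrix.mul_smul, Matrix.one_mul, Matrix.mul_one]
  have hnil : IsNilpotent (Y - c • 1) := by
    have hlow : ∀ (i j : ℕ) (hi : i < a) (hj : j < a), i ≤ j → (Y - c • 1) ⟨i, hi⟩ ⟨j, hj⟩ = 0 := by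
      intro i
      induction i with
      | zero =>
        intro j hi hj _
        rcases Nat.eq_zero_or_pos j with rfl | hj0
        · simp [hc]
        · exact hrow _ hY' ⟨j, hj⟩ (by simp only; omega)
      | succ i ih =>
        intro j hi hj hij
        set Z := Y - c • (1 : Matrix (Fin a) (Fin a) K)
        have hZN : Z * N = N * Z := by
          rw [hN, Matrix.mul_sub Z, Matrix.sub_mul _ _ Z, hY', Matrix.mul_one, Matrix.one_mul]
        have h := congrFun (congrFun hZN ⟨i + 1, hi⟩) ⟨j - 1, by omega⟩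
        rw [Matrix.mul_apply, Matrix.mul_apply, Finset.sum_eq_single (⟨j, hj⟩ : Fin a),
          Finset.sum_eq_single (⟨i, by omega⟩ : Fin a)] at h
        · rw [hNent, hNent, if_pos (by simp only; omega), if_pos rfl, mul_one, one_mul] at h
          rw [h]
          exact ih (j - 1) _ _ (by omega)
        · intro k _ hk; rw [hNent, if_neg (fun e => hk (Fin.ext (by simp only at e ⊢; omega))), zero_mul]
        · simp
        · intro k _ hk; rw [hNent, if_neg (fun e => hk (Fin.ext (by simp only at e ⊢; omega))), mul_zero]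
        · simp
    have hp : ∀ m (i j : Fin a), ((Y - c • 1) ^ m) i j ≠ 0 → (j : ℕ) + m ≤ i := by
      intro m
      induction m with
      | zero =>
        intro i j h
        rw [pow_zero, Matrix.one_apply] at h
        split_ifs at h with e
        · rw [e]; exact le_rfl
        · exact absurd rfl h
      | succ m ih =>
        intro i j h
        rw [pow_succ, Matrix.mul_apply] at h
        obtain ⟨r, -, hr⟩ := Finset.exists_ne_zero_of_sum_ne_zero h
        obtain ⟨h1, h2⟩ := mul_ne_zero_iff.mp hr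
        have := ih i r h1
        have : (j : ℕ) < r := not_le.mp fun hle => h2 (hlow _ _ r.2 j.2 hle)
        omega
    refine ⟨a, Matrix.ext fun i j => ?_⟩
    by_contra h
    have := hp a i j h
    have := i.2
    omega
  have hadj : IsNilpotent (adj s (F a) (Y - c • 1)) := by
    obtain ⟨m, hm⟩ := hnil
    refine ⟨m, ?_⟩
    have key : ∀ m, adj s (F a) (Y - c • 1) ^ m = adj s (F a) ((Y - c • 1) ^ m) := fun m => by
      induction m with
      | zero => rw [pow_zero, pow_zero, adj_one]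
      | succ m ih => rw [pow_succ, ih, ← adj_mul, ← pow_succ']
    rw [key, hm]
    simp [adj, cst, Matrix.map_zero]
  have h0 := hnil0 _ (hcm _ hY') hadj
  have hsplit : adj s (F a) Y = adj s (F a) (Y - c • 1) + s c • (1 : Matrix (Fin a) (Fin a) K) := by
    have h := adj_add (s := s) (P := F a) (Y - c • 1) (c • 1)
    rwa [sub_add_cancel, adj_smul, adj_one] at h
  show adj s (F a) Y ⟨0, ha⟩ ⟨0, ha⟩ = _
  rw [hsplit, Matrix.add_apply, h0, zero_add, Matrix.smul_apply, Matrix.one_apply_eq, smul_eq_mul, mul_one]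

/-- The leading entries of the adjoint. -/
theorem ext0_adj (hd : ∀ k, 1 ≤ d k)
    (hFJ : ∀ D, cst s (Cfsg.jordanBlock D K) * (F D).1 * Cfsg.jordanBlock D K = (F D).1) (c : Par d → K)
    (l k : Fin t) (hlk : d l = d k) :
    adj s (blockForm (d := d) F) (mk c) ⟨l, ⟨0, hd _⟩⟩ ⟨k, ⟨0, hd _⟩⟩ = s (ext0 c k l 0) := by
  show blk (adj s (blockForm (d := d) F) (mk c)) l k ⟨0, hd _⟩ ⟨0, hd _⟩ = _
  rw [blk_adj, entry_adj hFJ hlk (hd l) (hd k), ext0_eq hd]
  · rfl
  · have h := congrArg (fun M => blk M k l) ((commute_jordan_iff (mk c)).mpr (mk_comm c)).eq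
    simpa only [Cfsg.jordanTypeMatrix, blk_mul_diag, blk_diag_mul] using h

variable {q : ℕ}

theorem card_gu_fintype (hK : Fintype.card K = q ^ 2) (hs : ∀ x, s x = x ^ q) (ι : Type) [Fintype ι] [DecidableEq ι] :
    Nat.card {X : GL ι K // cst s X.1 * X.1 = 1} = Nat.card (Cfsg.GU (Fintype.card ι) K q) := by
  have hs2 : ∀ x, s (s x) = x := fun x => by rw [hs, hs, ← pow_mul, ← sq, ← hK, FiniteField.pow_card]
  let e := Fintype.equivFin ι
  let φ := Units.mapEquiv (Matrix.reindexAlgEquiv K K e).toMulEquiv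
  refine Nat.card_congr (Equiv.subtypeEquiv φ.toEquiv fun X => ?_)
  rw [CfsgLib.SUClassNumber.mem_GU_iff hs hs2]
  show cst s X.1 * X.1 = 1 ↔ cst s (Matrix.reindexAlgEquiv K K e X.1) * Matrix.reindexAlgEquiv K K e X.1 = 1
  rw [show cst s (Matrix.reindexAlgEquiv K K e X.1) = Matrix.reindexAlgEquiv K K e (cst s X.1) from rfl, ← map_mul,
    ← map_one (Matrix.reindexAlgEquiv K K e), (Matrix.reindexAlgEquiv K K e).injective.eq_iff]

theorem card_gl_fintype (ι : Type) [Fintype ι] [DecidableEq ι] :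
    Nat.card (GL ι K) = ∏ j : Fin (Fintype.card ι), (Fintype.card K ^ Fintype.card ι - Fintype.card K ^ (j : ℕ)) := by
  rw [← Matrix.card_GL_field (𝔽 := K) (Fintype.card ι)]
  exact Nat.card_congr (Units.mapEquiv (Matrix.reindexAlgEquiv K K (Fintype.equivFin ι)).toMulEquiv).toEquiv

/-- The isometries commuting with the unipotent matrix. -/
theorem card_isometry_jordan (hd : ∀ k, 1 ≤ d k) (D : ℕ) (hD : ∀ k, d k < D) (hK : Fintype.card K = q ^ 2)
    (hs : ∀ x, s x = x ^ q) (hne : ∃ a, s a ≠ a) (hF : ∀ D, cst s (F D).1 = (F D).1)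
    (hFJ : ∀ D, cst s (Cfsg.jordanBlock D K) * (F D).1 * Cfsg.jordanBlock D K = (F D).1) (J : GL (Ix d) K)
    (hJ : J.1 = Cfsg.jordanTypeMatrix d K) :
    Nat.card {X : GL (Ix d) K // Commute X.1 J.1 ∧
        cst s X.1 * (blockForm (d := d) F).1 * X.1 = (blockForm (d := d) F).1} =
      q ^ Nat.card {p : Par d // ¬ IsLead d p} * ∏ i : Fin D, Nat.card (Cfsg.GU (Fintype.card (Fib d i)) K q) := by
  classical
  have hs2 : ∀ x, s (s x) = x := fun x => by rw [hs, hs, ← pow_mul, ← sq, ← hK, FiniteField.pow_card]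
  have hq0 : 0 < q := by
    rcases Nat.eq_zero_or_pos q with rfl | h
    · simp at hK
    · exact h
  have hJP : cst s J.1 * (blockForm (d := d) F).1 * J.1 = (blockForm (d := d) F).1 := by
    rw [hJ]; exact blockForm_jordan hFJ
  set P := blockForm (d := d) F with hP
  have hPh : cst s P.1 = P.1 := blockForm_herm hF
  let ν : (Par d → K) → (Par d → K) := fun c => par (adj s P (mk c))
  have hνmk : ∀ c, mk (ν c) = adj s P (mk c) := fun c => mk_par _ ((commute_jordan_iff _).mp (by
    have := adj_comm (X := mk c) hJP (by rw [hJ]; exact (commute_jordan_iff _).mpr (mk_comm c))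
    rwa [hJ] at this))
  have hmkinj : Function.Injective (mk : (Par d → K) → Matrix (Ix d) (Ix d) K) := fun a b h => by
    rw [← par_mk a, h, par_mk]
  have hνadd : ∀ a b, ν (a + b) = ν a + ν b := fun a b => hmkinj (by rw [hνmk, mk_add, adj_add, mk_add, hνmk, hνmk])
  have hνsm : ∀ (z : K) a, ν (z • a) = s z • ν a := fun z a => hmkinj (by rw [hνmk, mk_smul, adj_smul, mk_smul, hνmk])
  have hνν : ∀ a, ν (ν a) = a := fun a => hmkinj (by rw [hνmk, hνmk, adj_adj hs2 hPh])
  let L : (Par d → K) → ∀ i : Fin D, Matrix (Fib d i) (Fib d i) K := fun c i => lead c i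
  have hLν : ∀ c i, L (ν c) i = cst s (L c i) := fun c i => by
    ext ⟨l, hl⟩ ⟨k, hk⟩
    show ext0 (ν c) l k 0 = s (ext0 c k l 0)
    rw [ext0_eq hd, hνmk, ext0_adj hd hFJ c l k (hl.trans hk.symm)]
  have hLadd : ∀ a b i, L (a + b) i = L a i + L b i := fun a b i => by
    ext l k
    show ext0 (a + b) l.1 k.1 0 = ext0 a l.1 k.1 0 + ext0 b l.1 k.1 0
    rw [ext0_eq hd, ext0_eq hd, ext0_eq hd, mk_add, Matrix.add_apply]
  have hLsm : ∀ (z : K) a i, L (z • a) i = z • L a i := fun z a i => by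
    ext l k
    show ext0 (z • a) l.1 k.1 0 = z * ext0 a l.1 k.1 0
    rw [ext0_eq hd, ext0_eq hd, mk_smul, Matrix.smul_apply, smul_eq_mul]
  let HF := {c : Par d → K // ν c = c}
  let HM := ∀ i : Fin D, {M : Matrix (Fib d i) (Fib d i) K // cst s M = M}
  let L' : HF → HM := fun c i => ⟨L c.1 i, by rw [← hLν, c.2]⟩
  obtain ⟨θ, hθ⟩ : ∃ θ : K, θ + s θ = 1 := by
    obtain ⟨a, ha⟩ : ∃ a : K, a + s a ≠ 0 := by
      by_contra hall
      push Not at hall
      obtain ⟨b, hb⟩ := hne
      have h1 := hall 1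
      rw [map_one] at h1
      exact hb (by linear_combination hall b - b * h1)
    refine ⟨a / (a + s a), ?_⟩
    rw [map_div₀, map_add, hs2, add_comm (s a) a, ← add_div, div_self ha]
  have hsec : ∀ M : HM, ∃ c : HF, L' c = M := by
    intro M
    let a : Par d → K := lift fun k => θ • (M ⟨d k, hD k⟩).1
    have hLa : ∀ i, L a i = θ • (M i).1 := fun i => by
      obtain ⟨i, hi⟩ := i
      ext ⟨l, hl⟩ ⟨k, hk⟩
      have hlk : d l = d k := hl.trans hk.symm
      simp only at hk
      subst hk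
      show ext0 a l k 0 = _
      simp only [ext0]
      rw [dif_pos ⟨hd l, by omega⟩]
      simp only [a, lift]
      rw [dif_pos ⟨trivial, hlk⟩]
    refine ⟨⟨a + ν a, by rw [hνadd, hνν, add_comm]⟩, funext fun i => Subtype.ext ?_⟩
    show L (a + ν a) i = (M i).1
    rw [hLadd, hLν, hLa, cst_smul, (M i).2, ← add_smul, hθ, one_smul]
  choose g hg using hsec
  let Ker := {c : HF // ∀ i, L c.1 i = 0}
  have hfib : ∀ S : HM → Prop, Nat.card {c : HF // S (L' c)} = Nat.card Ker * Nat.card {M : HM // S M} := by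
    intro S
    rw [← Nat.card_prod]
    have hLg : ∀ M i, L (g M).1 i = (M i).1 := fun M i => congrArg Subtype.val (congrFun (hg M) i)
    have hsum : ∀ (k : Ker) (M : HM), L' ⟨k.1.1 + (g M).1, by rw [hνadd, k.1.2, (g M).2]⟩ = M :=
      fun k M => funext fun i => Subtype.ext (by
        show L (k.1.1 + (g M).1) i = (M i).1
        rw [hLadd, k.2, zero_add, hLg])
    let f : Ker × {M : HM // S M} → {c : HF // S (L' c)} := fun w =>
      ⟨⟨w.1.1.1 + (g w.2.1).1, by rw [hνadd, w.1.1.2, (g w.2.1).2]⟩, by rw [hsum]; exact w.2.2⟩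
    refine (Nat.card_congr (Equiv.ofBijective f ⟨fun w w' h => ?_, fun c => ?_⟩)).symm
    · have h2 : w.2 = w'.2 := Subtype.ext (by
        have := congrArg (fun c : {c : HF // S (L' c)} => L' c.1) h
        simp only [f, hsum] at this
        exact this)
      have h1 := congrArg (fun c : {c : HF // S (L' c)} => c.1.1) h
      simp only [f, h2, add_left_inj] at h1
      exact Prod.ext (Subtype.ext (Subtype.ext h1)) h2
    · have hneg : ν (-(g (L' c.1)).1) = -(g (L' c.1)).1 := by
        rw [← neg_one_smul K (g (L' c.1)).1, hνsm, map_neg, map_one, (g (L' c.1)).2]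
      refine ⟨(⟨⟨c.1.1 + -(g (L' c.1)).1, by rw [hνadd, c.1.2, hneg]⟩, fun i => ?_⟩, ⟨L' c.1, c.2⟩),
        Subtype.ext (Subtype.ext (neg_add_cancel_right c.1.1 _))⟩
      show L (c.1.1 + -(g (L' c.1)).1) i = 0
      rw [hLadd, ← neg_one_smul K (g (L' c.1)).1, hLsm, hLg]
      show L c.1.1 i + (-1 : K) • L c.1.1 i = 0
      rw [neg_one_smul, add_neg_cancel]
  -- the fixed points
  have hHF : Nat.card HF = q ^ Nat.card (Par d) := card_fixed hs2 hne hK hνadd hνsm hνν (by
    rw [Nat.card_fun, Nat.card_eq_fintype_card (α := K)])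
  have hHM : Nat.card HM = q ^ ∑ i : Fin D, Fintype.card (Fib d i) ^ 2 := by
    rw [Nat.card_pi, ← Finset.prod_pow_eq_pow_sum]
    refine Finset.prod_congr rfl fun i _ => card_fixed (ν := cst s) hs2 hne hK cst_add cst_smul (cst_cst hs2) ?_
    rw [card_matrix, sq]
  have hPar : Nat.card (Par d) = Nat.card {p : Par d // ¬ IsLead d p} + ∑ i : Fin D, Fintype.card (Fib d i) ^ 2 := by
    have h1 : Nat.card ({p : Par d // IsLead d p} → K) = Fintype.card K ^ ∑ i : Fin D, Fintype.card (Fib d i) ^ 2 := by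
      rw [Nat.card_congr (leadEquiv hd D hD), Nat.card_pi, ← Finset.prod_pow_eq_pow_sum]
      refine Finset.prod_congr rfl fun i _ => ?_
      rw [card_matrix, sq]
    rw [Nat.card_fun, Nat.card_eq_fintype_card (α := K)] at h1
    rw [← Nat.pow_right_injective Fintype.one_lt_card h1, ← Nat.card_congr (Equiv.sumCompl fun p => IsLead d p),
      Nat.card_sum, add_comm]
  have hker : Nat.card Ker = q ^ Nat.card {p : Par d // ¬ IsLead d p} := by
    have h := hfib fun _ => True
    rw [Nat.card_congr (Equiv.subtypeUnivEquiv fun _ => trivial),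
      Nat.card_congr (Equiv.subtypeUnivEquiv fun _ => trivial), hHF, hHM, hPar, pow_add] at h
    exact Nat.eq_of_mul_eq_mul_right (pow_pos hq0 _) h.symm
  -- Hermitian units of the commutant
  have hout : ∀ (c : Par d → K) (i : ℕ), D ≤ i → IsUnit (lead c i) := by
    intro c i hi
    haveI : IsEmpty (Fib d i) := ⟨fun k => by have := hD k.1; have := k.2; omega⟩
    exact isUnit_of_subsingleton _
  have hHerm : Nat.card {h : Matrix (Ix d) (Ix d) K // Commute h J.1 ∧ adj s P h = h ∧ IsUnit h} =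
      Nat.card Ker * ∏ i : Fin D, Nat.card {M : Matrix (Fib d i) (Fib d i) K // cst s M = M ∧ IsUnit M} := by
    have h1 := hfib fun M => ∀ i, IsUnit (M i).1
    have e1 : Nat.card {M : HM // ∀ i, IsUnit (M i).1} =
        ∏ i : Fin D, Nat.card {M : Matrix (Fib d i) (Fib d i) K // cst s M = M ∧ IsUnit M} := by
      rw [← Nat.card_pi]
      exact Nat.card_congr
        { toFun := fun M i => ⟨(M.1 i).1, (M.1 i).2, M.2 i⟩
          invFun := fun M => ⟨fun i => ⟨(M i).1, (M i).2.1⟩, fun i => (M i).2.2⟩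
          left_inv := fun M => rfl
          right_inv := fun M => rfl }
    rw [e1] at h1
    rw [← h1]
    have hunit : ∀ c : Par d → K, IsUnit (mk c) ↔ ∀ i : Fin D, IsUnit (lead c i) := fun c => by
      rw [isUnit_iff hd]
      exact ⟨fun h i => h i, fun h i => if hi : i < D then h ⟨i, hi⟩ else hout c i (not_lt.mp hi)⟩
    exact Nat.card_congr
      { toFun := fun h => ⟨⟨par h.1, by
          have hm : mk (par h.1) = h.1 := mk_par _ ((commute_jordan_iff _).mp (by rw [← hJ]; exact h.2.1))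
          show par (adj s P (mk (par h.1))) = par h.1
          rw [hm, h.2.2.1]⟩, (hunit (par h.1)).mp (by
          rw [mk_par _ ((commute_jordan_iff _).mp (by rw [← hJ]; exact h.2.1))]; exact h.2.2.2)⟩
        invFun := fun c => ⟨mk c.1.1, by rw [hJ]; exact (commute_jordan_iff _).mpr (mk_comm _),
          by rw [← hνmk, c.1.2], (hunit c.1.1).mpr c.2⟩
        left_inv := fun h => Subtype.ext (mk_par _ ((commute_jordan_iff _).mp (by rw [← hJ]; exact h.2.1)))
        right_inv := fun c => Subtype.ext (Subtype.ext (par_mk _)) }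
  have hC : Nat.card {X : GL (Ix d) K // Commute X.1 J.1} = Fintype.card K ^ Nat.card {p : Par d // ¬ IsLead d p} *
      ∏ i : Fin D, Nat.card (GL (Fib d i) K) := by
    rw [Finset.prod_congr rfl fun (i : Fin D) _ => card_gl_fintype (K := K) (Fib d i), ← card_units hd D hD,
      ← Nat.card_congr (centralizerEquiv hd)]
    exact Nat.card_congr (Equiv.subtypeEquivRight fun X => by rw [hJ]; rfl)
  have horb := card_isometry_mul_herm (P := P) hs2 hne hPh hJP
  rw [hHerm, hC, hker, hK, ← pow_mul, two_mul, pow_add,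
    Finset.prod_congr rfl fun (i : Fin D) _ => (card_herm_units (ι := Fib d i) hs2 hne).symm,
    Finset.prod_mul_distrib, Finset.prod_congr rfl fun (i : Fin D) _ => card_gu_fintype hK hs (Fib d i)] at horb
  have hpos : 0 < q ^ Nat.card {p : Par d // ¬ IsLead d p} *
      ∏ i : Fin D, Nat.card {M : Matrix (Fib d i) (Fib d i) K // cst s M = M ∧ IsUnit M} := by
    refine Nat.mul_pos (pow_pos hq0 _) (Finset.prod_pos fun i _ => ?_)
    haveI : Finite {M : Matrix (Fib d i) (Fib d i) K // cst s M = M ∧ IsUnit M} := Subtype.finite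
    exact Nat.card_pos_iff.mpr ⟨⟨1, cst_one, isUnit_one⟩, inferInstance⟩
  refine Nat.eq_of_mul_eq_mul_right hpos (horb.trans ?_)
  ring

end CfsgLib.UnitaryUnipotent
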