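import Cfsg.Agent.Lib.UnitaryConj.Norm
import Mathlib.LinearAlgebra.Matrix.GeneralLinearGroup.Defs

/-!
Isometry groups inside a commutant and the Hermitian elements of the commutant.
-/

set_option autoImplicit false
set_option linter.unusedSectionVars false

namespace CfsgLib.UnitaryUnipotent

open Matrix Polynomial

universe u

variable {K : Type u} [Field K] {ι κ : Type} [Fintype ι] [DecidableEq ι] [Fintype κ] [DecidableEq κ] {s : K →+* K}

/-- The conjugate transpose. -/
def cst (s : K →+* K) {ι κ : Type} (M : Matrix ι κ K) : Matrix κ ι K := (M.map s).transpose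

theorem cst_mul (M N : Matrix ι ι K) : cst s (M * N) = cst s N * cst s M := by
  simp [cst, Matrix.map_mul, transpose_mul]

theorem cst_add (M N : Matrix ι ι K) : cst s (M + N) = cst s M + cst s N := by
  simp [cst, Matrix.map_add, transpose_add]

theorem cst_smul (c : K) (M : Matrix ι ι K) : cst s (c • M) = s c • cst s M := by
  ext i j; simp [cst]

theorem cst_one : cst s (1 : Matrix ι ι K) = 1 := by
  simp [cst, Matrix.map_one]

theorem cst_cst (hs2 : ∀ x, s (s x) = x) {ι κ : Type} (M : Matrix ι κ K) : cst s (cst s M) = M := by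
  ext i j; simp [cst, hs2]

theorem cst_apply {ι κ : Type} (M : Matrix ι κ K) (i : κ) (j : ι) : cst s M i j = s (M j i) := rfl

/-- The adjoint for a form. -/
def adj (s : K →+* K) (P : GL ι K) (M : Matrix ι ι K) : Matrix ι ι K := (P⁻¹).1 * cst s M * P.1

variable {P : GL ι K}

theorem adj_mul (M N : Matrix ι ι K) : adj s P (M * N) = adj s P N * adj s P M := by
  simp only [adj, cst_mul, Matrix.mul_assoc, Units.mul_inv_cancel_left]

theorem adj_add (M N : Matrix ι ι K) : adj s P (M + N) = adj s P M + adj s P N := by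
  simp [adj, cst_add, Matrix.mul_add, Matrix.add_mul]

theorem adj_smul (c : K) (M : Matrix ι ι K) : adj s P (c • M) = s c • adj s P M := by
  simp [adj, cst_smul]

theorem adj_one : adj s P (1 : Matrix ι ι K) = 1 := by
  simp [adj, cst_one]

theorem adj_adj (hs2 : ∀ x, s (s x) = x) (hP : cst s P.1 = P.1) (M : Matrix ι ι K) : adj s P (adj s P M) = M := by
  have h1 : cst s (P⁻¹).1 = (P⁻¹).1 := by
    have h2 : cst s (P⁻¹).1 * P.1 = 1 := by
      rw [← hP, ← cst_mul, Units.mul_inv, cst_one]
    calc cst s (P⁻¹).1 = cst s (P⁻¹).1 * P.1 * (P⁻¹).1 := by rw [Matrix.mul_assoc, Units.mul_inv, Matrix.mul_one]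
      _ = (P⁻¹).1 := by rw [h2, Matrix.one_mul]
  simp only [adj, cst_mul, cst_cst hs2, hP, h1]
  simp only [Matrix.mul_assoc, Units.inv_mul, Matrix.mul_one, Units.inv_mul_cancel_left]

theorem isometry_iff (X : Matrix ι ι K) : adj s P X * X = 1 ↔ cst s X * P.1 * X = P.1 := by
  rw [adj]
  constructor
  · intro h
    calc cst s X * P.1 * X = P.1 * ((P⁻¹).1 * cst s X * P.1 * X) := by
          simp only [Matrix.mul_assoc, Units.mul_inv_cancel_left]
      _ = P.1 := by rw [h, Matrix.mul_one]
  · intro h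
    calc (P⁻¹).1 * cst s X * P.1 * X = (P⁻¹).1 * (cst s X * P.1 * X) := by simp only [Matrix.mul_assoc]
      _ = 1 := by rw [h, Units.inv_mul]

/-- An isometry has the inverse of its adjoint. -/
theorem adj_eq_inv {J : GL ι K} (hJ : cst s J.1 * P.1 * J.1 = P.1) : adj s P J.1 = (J⁻¹).1 := by
  have h := (isometry_iff (s := s) (P := P) J.1).mpr hJ
  calc adj s P J.1 = adj s P J.1 * J.1 * (J⁻¹).1 := by rw [Matrix.mul_assoc, Units.mul_inv, Matrix.mul_one]
    _ = (J⁻¹).1 := by rw [h, Matrix.one_mul]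

theorem adj_comm {J : GL ι K} (hJ : cst s J.1 * P.1 * J.1 = P.1) {X : Matrix ι ι K} (hX : Commute X J.1) :
    Commute (adj s P X) J.1 := by
  have h := congrArg (adj s P) hX.eq
  rw [adj_mul, adj_mul, adj_eq_inv hJ] at h
  show adj s P X * J.1 = J.1 * adj s P X
  calc adj s P X * J.1 = J.1 * ((J⁻¹).1 * adj s P X) * J.1 := by simp only [Matrix.mul_assoc, Units.mul_inv_cancel_left]
    _ = J.1 * (adj s P X * (J⁻¹).1) * J.1 := by rw [h]
    _ = J.1 * adj s P X := by simp only [Matrix.mul_assoc, Units.inv_mul, Matrix.mul_one]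

variable [Fintype K]

/-- A square root of a Hermitian unit in the commutant. -/
theorem exists_sqrt (hs2 : ∀ x, s (s x) = x) (hne : ∃ a, s a ≠ a) {h : Matrix ι ι K} (hu : IsUnit h)
    (hh : adj s P h = h) :
    ∃ z : GL ι K, adj s P z.1 * z.1 = h ∧ ∀ Y, Commute Y h → Commute Y z.1 := by
  classical
  set N := orderOf hu.unit with hN
  have hhN : h ^ N = 1 := by
    have := congrArg Units.val (pow_orderOf_eq_one hu.unit)
    simpa [← hN] using this
  obtain ⟨p, r, hp⟩ := UnitaryConj.exists_norm hs2 hne (N := N) (orderOf_pos hu.unit).ne'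
  have hpow : ∀ i, adj s P (h ^ i) = h ^ i := by
    intro i
    induction i with
    | zero => rw [pow_zero, adj_one]
    | succ i ih => rw [pow_succ, adj_mul, ih, hh, ← pow_succ', pow_succ]
  have haev : ∀ t : K[X], adj s P (aeval h t) = aeval h (t.map s) := by
    intro t
    induction t using Polynomial.induction_on' with
    | add u v hu hv => rw [map_add, Polynomial.map_add, map_add, adj_add, hu, hv]
    | monomial i c =>
      rw [Polynomial.map_monomial, aeval_monomial, aeval_monomial, ← Algebra.smul_def, ← Algebra.smul_def,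
        adj_smul, hpow i]
  have hzz : adj s P (aeval h p) * aeval h p = h := by
    have e := congrArg (aeval h) hp
    simp only [map_sub, map_mul, map_pow, aeval_X, map_one, hhN, sub_self, zero_mul, sub_eq_zero] at e
    rw [haev, ← map_mul, mul_comm (p.map s), map_mul, e]
  have hzu : IsUnit (aeval h p) := by
    rw [Matrix.isUnit_iff_isUnit_det]
    have := (Matrix.isUnit_iff_isUnit_det _).mp hu
    rw [← hzz, det_mul] at this
    exact isUnit_of_mul_isUnit_right this
  refine ⟨hzu.unit, hzz, fun Y hY => ?_⟩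
  rw [IsUnit.unit_spec]
  exact Algebra.commute_of_mem_adjoin_singleton_of_commute (aeval_mem_adjoin_singleton K h) hY

/-- The isometries and the Hermitian units fill the commutant. -/
theorem card_isometry_mul_herm (hs2 : ∀ x, s (s x) = x) (hne : ∃ a, s a ≠ a) (hP : cst s P.1 = P.1) {J : GL ι K}
    (hJ : cst s J.1 * P.1 * J.1 = P.1) :
    Nat.card {X : GL ι K // Commute X.1 J.1 ∧ cst s X.1 * P.1 * X.1 = P.1} *
      Nat.card {h : Matrix ι ι K // Commute h J.1 ∧ adj s P h = h ∧ IsUnit h} =
      Nat.card {X : GL ι K // Commute X.1 J.1} := by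
  rw [← Nat.card_prod]
  choose z hz hzc using fun h : {h : Matrix ι ι K // Commute h J.1 ∧ adj s P h = h ∧ IsUnit h} =>
    exists_sqrt (P := P) hs2 hne h.2.2.2 h.2.2.1
  have hzJ : ∀ h, Commute (z h).1 J.1 := fun h => (hzc h _ h.2.1.symm).symm
  let f : {X : GL ι K // Commute X.1 J.1 ∧ cst s X.1 * P.1 * X.1 = P.1} ×
      {h : Matrix ι ι K // Commute h J.1 ∧ adj s P h = h ∧ IsUnit h} → {X : GL ι K // Commute X.1 J.1} :=
    fun w => ⟨w.1.1 * z w.2, w.1.2.1.mul_left (hzJ w.2)⟩
  have hval : ∀ w, adj s P (f w).1.1 * (f w).1.1 = w.2.1 := fun w => by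
    show adj s P (w.1.1.1 * (z w.2).1) * (w.1.1.1 * (z w.2).1) = _
    rw [adj_mul, Matrix.mul_assoc, ← Matrix.mul_assoc (adj s P w.1.1.1), (isometry_iff _).mpr w.1.2.2,
      Matrix.one_mul, hz]
  refine Nat.card_congr (Equiv.ofBijective f ⟨fun w w' h => ?_, fun X => ?_⟩)
  · have h2 : w.2 = w'.2 := Subtype.ext (by rw [← hval w, ← hval w', h])
    have h1 := congrArg Subtype.val h
    simp only [f, h2] at h1
    exact Prod.ext (Subtype.ext (mul_right_cancel h1)) h2
  · let h : {h : Matrix ι ι K // Commute h J.1 ∧ adj s P h = h ∧ IsUnit h} :=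
      ⟨adj s P X.1.1 * X.1.1, (adj_comm hJ X.2).mul_left X.2, by rw [adj_mul, adj_adj hs2 hP], by
        refine IsUnit.mul ?_ X.1.isUnit
        exact IsUnit.of_mul_eq_one (adj s P (X.1⁻¹).1) (by rw [← adj_mul, Units.inv_mul, adj_one])⟩
    refine ⟨(⟨X.1 * (z h)⁻¹, X.2.mul_left (hzJ h).units_inv_left, (isometry_iff _).mp ?_⟩, h),
      Subtype.ext (inv_mul_cancel_right X.1 (z h))⟩
    show adj s P (X.1.1 * ((z h)⁻¹).1) * (X.1.1 * ((z h)⁻¹).1) = 1
    rw [adj_mul, Matrix.mul_assoc, ← Matrix.mul_assoc (adj s P X.1.1), show adj s P X.1.1 * X.1.1 = h.1 from rfl, ← hz h,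
      Matrix.mul_assoc (adj s P (z h).1), Units.mul_inv, Matrix.mul_one, ← adj_mul, Units.mul_inv, adj_one]

/-- The Hermitian elements of a space stable under a semilinear involution. -/
theorem card_fixed (hs2 : ∀ x, s (s x) = x) (hne : ∃ a, s a ≠ a) {q : ℕ} (hK : Fintype.card K = q ^ 2)
    {M : Type*} [AddCommGroup M] [Module K M] {ν : M → M} (hadd : ∀ a b, ν (a + b) = ν a + ν b)
    (hsm : ∀ (c : K) a, ν (c • a) = s c • ν a) (hinv : ∀ a, ν (ν a) = a) {D : ℕ}
    (hD : Nat.card M = Fintype.card K ^ D) : Nat.card {a : M // ν a = a} = q ^ D := by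
  obtain ⟨ζ, hζ⟩ := hne
  have hd : s ζ - ζ ≠ 0 := sub_ne_zero.mpr hζ
  let f : {a : M // ν a = a} × {a : M // ν a = a} → M := fun w => w.1.1 + ζ • w.2.1
  have hf : Function.Bijective f := by
    refine ⟨fun w w' h => ?_, fun m => ?_⟩
    · have h' := congrArg ν h
      simp only [f, hadd, hsm, w.1.2, w.2.2, w'.1.2, w'.2.2] at h'
      simp only [f] at h
      have e : (s ζ - ζ) • (w.2.1 - w'.2.1) = 0 := by
        linear_combination (norm := module) h' - h
      have e2 : w.2.1 = w'.2.1 := sub_eq_zero.mp ((smul_eq_zero.mp e).resolve_left hd)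
      rw [e2] at h
      exact Prod.ext (Subtype.ext (add_right_cancel h)) (Subtype.ext e2)
    · set b := (s ζ - ζ)⁻¹ • (ν m - m) with hb
      have hbb : ν b = b := by
        rw [hb, hsm, map_inv₀, map_sub, hs2]
        have : ν (ν m - m) = -(ν m - m) := by
          have := hadd (ν m - m) m
          rw [sub_add_cancel, hinv] at this
          linear_combination (norm := module) -this
        rw [this, smul_neg, ← neg_smul, ← inv_neg, neg_sub]
      refine ⟨(⟨m - ζ • b, ?_⟩, ⟨b, hbb⟩), sub_add_cancel m (ζ • b)⟩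
      have h1 := hadd (m - ζ • b) (ζ • b)
      rw [sub_add_cancel, hsm, hbb] at h1
      have h2 : (s ζ - ζ) • b = ν m - m := by rw [hb, smul_smul, mul_inv_cancel₀ hd, one_smul]
      linear_combination (norm := module) -h1 - h2
  have h1 := Nat.card_eq_of_bijective f hf
  rw [Nat.card_prod, hD, hK, ← pow_mul, mul_comm 2 D, pow_mul, ← sq] at h1
  exact Nat.pow_left_injective two_ne_zero h1

/-- Invertible Hermitian matrices. -/
theorem card_herm_units (hs2 : ∀ x, s (s x) = x) (hne : ∃ a, s a ≠ a) :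
    Nat.card {X : GL ι K // cst s X.1 * X.1 = 1} * Nat.card {h : Matrix ι ι K // cst s h = h ∧ IsUnit h} =
      Nat.card (GL ι K) := by
  have h := card_isometry_mul_herm (P := (1 : GL ι K)) hs2 hne (by simp [cst_one]) (J := 1) (by simp [cst_one])
  have e : ∀ M : Matrix ι ι K, adj s (1 : GL ι K) M = cst s M := fun M => by simp [adj]
  simp only [Units.val_one, Matrix.mul_one, e, Commute.one_right, true_and] at h
  rw [h]
  exact Nat.card_congr (Equiv.subtypeUnivEquiv fun _ => trivial)

end CfsgLib.UnitaryUnipotent
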